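import Groth.Agent.Lib.RelES12.Fibre
import Groth.Agent.Lib.FreeFib18.Main
import Groth.Agent.Lib.Depth3.Zero
import Groth.Agent.Lib.PushUnit3.Basic
import Groth.Agent.Lib.ParaF27.Res
import Groth.Agent.Lib.ModM1.LocFree
import Groth.Prelude.Def_TorSh

/-!
# Homomorphisms to locally free modules extend from the locally free locus
-/

set_option autoImplicit false
set_option linter.style.haveILetI false
set_option backward.isDefEq.respectTransparency false
set_option maxHeartbeats 1600000

universe u

open CategoryTheory CategoryTheory.Limits AlgebraicGeometry TopologicalSpace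
open scoped TensorProduct

namespace Groth.Agent.TFExt18

open Groth.Agent

/-- A torsion-free module over a local domain that is not a field has positive depth. -/
theorem one_le_depth {R M : Type u} [CommRing R] [IsDomain R] [IsLocalRing R] [IsNoetherianRing R]
    [AddCommGroup M] [Module R M] [Module.Finite R M] [Module.IsTorsionFree R M] (h : ¬ IsField R) :
    (1 : ℕ∞) ≤ LocCoh.depth R M := by
  refine Order.one_le_iff_ne_zero.2 fun h0 => ?_
  obtain ⟨hm, v, hv⟩ := Depth3.depth_eq_zero_iff.1 h0
  obtain ⟨r, hr, hr0⟩ := (Submodule.ne_bot_iff _).1 fun hb =>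
    h (IsLocalRing.isField_iff_maximalIdeal_eq.2 hb)
  obtain ⟨n, hn⟩ : r ∈ ((⊥ : Submodule R M).colon {v}).radical := hv ▸ hr
  rw [Submodule.mem_colon_singleton, Submodule.mem_bot, smul_eq_zero] at hn
  rcases hn with hn | hn
  · exact hr0 (eq_zero_of_pow_eq_zero hn)
  · refine hm.ne_top (hv ▸ ?_)
    subst hn
    simp

/-- Depth at a point where a family of torsion-free sheaves is not free. -/
theorem free_or_two_le_depth {Y S : Scheme.{u}} [IsLocallyNoetherian S] [IsLocallyNoetherian Y] (p : Y ⟶ S)
    [Smooth p] {E : Y.Modules} (hE : Coh.IsCoh E) (hfl : FlatMod.IsFlatOver p E)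
    (htf : ∀ s : S, TorSh.IsTorsionFree ((Scheme.Modules.pullback (p.fiberι s)).obj E)) (x : Y) :
    Module.Free (Y.presheaf.stalk x) (E.presheaf.stalk x) ∨
      (2 : ℕ∞) ≤ LocCoh.depth (Y.presheaf.stalk x) (Y.presheaf.stalk x) := by
  let z := p.asFiber x
  haveI : Smooth (p.fiberToSpecResidueField (p x)) :=
    MorphismProperty.pullback_snd _ _ inferInstance
  haveI : IsLocallyNoetherian (p.fiber (p x)) :=
    LocallyOfFiniteType.isLocallyNoetherian (p.fiberToSpecResidueField (p x))
  let Rz := (p.fiber (p x)).presheaf.stalk z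
  haveI : IsRegularLocalRing Rz := SmoothReg17.isRegularLocalRing_stalk (p.fiberToSpecResidueField (p x)) z
  haveI := DepthLib.isCohenMacaulayLocalRing_of_isRegularLocalRing (R := Rz)
  letI : Algebra (S.presheaf.stalk (p x)) (Y.presheaf.stalk x) := (p.stalkMap x).hom.toAlgebra
  haveI : IsLocalHom (algebraMap (S.presheaf.stalk (p x)) (Y.presheaf.stalk x)) :=
    inferInstanceAs (IsLocalHom (p.stalkMap x).hom)
  let A := S.presheaf.stalk (p x)
  let B := Y.presheaf.stalk x
  let I : Ideal B := (IsLocalRing.maximalIdeal A).map (algebraMap A B)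
  obtain ⟨e⟩ : Nonempty ((B ⧸ I) ≃+* Rz) := FlatDepth.nonempty_fiberStalkEquiv p x
  have hIm : I ≤ IsLocalRing.maximalIdeal B := RelES12.fI_le p x
  haveI : Nontrivial (B ⧸ I) := e.toEquiv.nontrivial
  haveI : IsLocalRing (B ⧸ I) := e.symm.isLocalRing
  haveI hreg : IsRegularLocalRing (B ⧸ I) := IsRegularLocalRing.of_ringEquiv e.symm
  haveI := DepthLib.isCohenMacaulayLocalRing_of_isRegularLocalRing (R := B ⧸ I)
  have hdim : ringKrullDim (B ⧸ I) = ((LocCoh.depth (B ⧸ I) (B ⧸ I) : ℕ∞) : WithBot ℕ∞) := by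
    rw [← Module.supportDim_self_eq_ringKrullDim]
    exact LocCoh.IsCohenMacaulayLocalRing.supportDim_eq_depth
  by_cases h2 : (2 : ℕ∞) ≤ LocCoh.depth (B ⧸ I) (B ⧸ I)
  · right
    haveI : Module.Flat A B := Flat.stalkMap p x
    have h := FlatDepth.depth_tensor (R := A) (S := B) (N := B) A
    rw [DepthLib.idealDepth_congr (I := IsLocalRing.maximalIdeal B)
      (TensorProduct.AlgebraTensorModule.rid A B B) |> (fun h : LocCoh.depth B (B ⊗[A] A) = LocCoh.depth B B => h)] at h
    rw [h]
    refine le_trans h2 (le_trans (le_of_eq ?_) le_add_self)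
    have h3 : LocCoh.depth B (B ⊗[A] (A ⧸ IsLocalRing.maximalIdeal A)) = LocCoh.depth B (EGA4.FibMod A B B) :=
      DepthLib.idealDepth_congr (FlatDepth.fibModEquiv B)
    have h4 : LocCoh.depth B (EGA4.FibMod A B B) = LocCoh.depth B (B ⧸ I) :=
      DepthLib.idealDepth_congr (Submodule.quotEquivOfEq _ _ (by simp [I]))
    rw [h3, h4]
    exact (FlatDepth.depth_eq_of_surjective (A := B) (B := B ⧸ I) (B ⧸ I) Ideal.Quotient.mk_surjective).symm
  · left
    haveI : Module.Finite B (E.presheaf.stalk x) := M1.finite_stalk hE.1 hE.2 x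
    letI := FlatMod.moduleStalkOver p E x
    haveI : IsScalarTower A B (E.presheaf.stalk x) := IsScalarTower.of_algebraMap_smul fun _ _ => rfl
    haveI : Module.Flat A (E.presheaf.stalk x) := hfl x
    obtain ⟨r, hr⟩ : ∃ r : ℕ, LocCoh.depth (B ⧸ I) (B ⧸ I) = r :=
      (ENat.ne_top_iff_exists.1 (show LocCoh.depth (B ⧸ I) (B ⧸ I) ≠ ⊤ from fun h => h2 (by rw [h]; exact le_top))).imp
        fun _ h => h.symm
    refine RelES12.free_of_fdepth (R := A) (IsLocalRing.maximalIdeal A) hIm hreg r hr ?_
    rcases Nat.eq_zero_or_pos r with rfl | hr0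
    · simp
    · have hr1 : r = 1 := by
        rw [hr] at h2
        have : ¬ 2 ≤ r := fun h => h2 (by exact_mod_cast h)
        omega
      subst hr1
      haveI : IsDomain Rz := RegLoc.isDomain Rz
      have hnf : ¬ IsField Rz := fun hf => by
        have h0 : ringKrullDim Rz = 0 := ringKrullDim_eq_zero_of_isField hf
        rw [← ringKrullDim_eq_of_ringEquiv e, hdim, hr] at h0
        simp at h0
      let EF := (Scheme.Modules.pullback (p.fiberι (p x))).obj E
      have hEF : Coh.IsCoh EF := M1.isCoh_pullback _ hE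
      haveI : Module.Finite Rz (EF.presheaf.stalk z) := M1.finite_stalk hEF.1 hEF.2 z
      haveI : Module.IsTorsionFree Rz (EF.presheaf.stalk z) := htf (p x) z
      have := RelES12.fdep_eq_fiberDepth p E x
      rw [RelES12.fdep] at this
      exact le_of_le_of_eq (by exact_mod_cast one_le_depth (R := Rz) (M := EF.presheaf.stalk z) hnf) this.symm

/-- Restriction to a big open is bijective for locally free modules. -/
theorem isIso_unit {Y : Scheme.{u}} {U : Y.Opens} (hU : ParaF27.RB U) {F : Y.Modules}
    (hF : FlatMod.IsFinLocFree F) :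
    IsIso ((Scheme.Modules.restrictAdjunction U.ι).unit.app F) := by
  refine PushUnit3.isIso_of_locally_bijective _ fun x => ?_
  obtain ⟨n, D, e, hxD, he⟩ := PushUnit3.exists_isBas_nhd' hF x
  refine ⟨D, hxD, fun V hV => ?_⟩
  rw [Scheme.Modules.restrictAdjunction_unit_app_app]
  exact ParaF27.mres_bijective_congr (FreeFib18.resBij_of_basis hU (FreeFib18.isBasisSec_of_isBas he) hV)
    (by rw [Scheme.Hom.image_preimage_eq_opensRange_inf, Scheme.Opens.opensRange_ι, inf_comm]) _

/-- Maps into a locally free module extend uniquely from a big open. -/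
theorem existsUnique_extend {Y : Scheme.{u}} {U : Y.Opens} {E F : Y.Modules}
    [IsIso ((Scheme.Modules.restrictAdjunction U.ι).unit.app F)] (ψ : E.restrict U.ι ⟶ F.restrict U.ι) :
    ∃! φ : E ⟶ F, (Scheme.Modules.restrictFunctor U.ι).map φ = ψ := by
  let adj := Scheme.Modules.restrictAdjunction U.ι
  let η := adj.unit.app F
  refine ⟨adj.unit.app E ≫ (Scheme.Modules.pushforward U.ι).map ψ ≫ inv η, ?_, fun φ hφ => ?_⟩
  · apply (adj.homEquiv E _).injective
    rw [adj.homEquiv_unit, adj.homEquiv_unit, ← cancel_mono (inv η)]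
    have hn : ∀ φ : E ⟶ F, adj.unit.app E ≫ (Scheme.Modules.pushforward U.ι).map
        ((Scheme.Modules.restrictFunctor U.ι).map φ) = φ ≫ η := fun φ => (adj.unit.naturality φ).symm
    rw [hn]
    simp [η]
  · subst hφ
    have hn := adj.unit.naturality φ
    simp only [Functor.id_obj, Functor.id_map, Functor.comp_map] at hn
    rw [← Category.assoc, ← hn, Category.assoc, IsIso.hom_inv_id, Category.comp_id]

end Groth.Agent.TFExt18
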